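import Groth.Agent.Lib.RelNorm14.Exists

/-!
# Existence of relative normalizations: conclusion
-/

universe u

set_option backward.isDefEq.respectTransparency.types false

open CategoryTheory CategoryTheory.Limits AlgebraicGeometry AlgSp Opposite
open Groth.Agent.AlgSpace Groth.Agent.SchImage14 Groth.Agent.AlgSpDescent

namespace Groth.Agent.RelNorm14

variable {S : Scheme.{u}} {Y X : Space S} (f : Y ⟶ X)

/-- A quasi-compact morphism of algebraic spaces has a relative normalization. -/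
theorem exists_relNormalization (hqc : IsQuasiCompactMor f.hom) :
    ∃ (X' : Space S) (ν : X' ⟶ X) (f' : Y ⟶ X'), IsRelNormalization f.hom ν.hom f'.hom := by
  obtain ⟨D⟩ := exists_setup hqc
  let ι := {σ : ∀ j, Set Γ((D.A j).left, ⊤) // ∃ F : DomFact f, D.data F = σ}
  let F : ι → DomFact f := fun σ => σ.2.choose
  have hF : ∀ σ, D.data (F σ) = σ.1 := fun σ => σ.2.choose_spec
  obtain ⟨P, p, pr, hp, hpr, hlift⟩ := exists_integral_product X.property (fun σ => (F σ).Z.obj)
    (fun σ => (F σ).π) (fun σ => (F σ).hint)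
  obtain ⟨gP, hgP, hgPσ⟩ := hlift f.hom (fun σ => (F σ).g) (fun σ => (F σ).hw)
  obtain ⟨W, i, hi⟩ := exists_isSchImage (ObjectProperty.homMk gP : Y ⟶ P)
  obtain ⟨gW, hgW⟩ := hi.2.1
  have hgW : gW ≫ i.hom = gP := hgW
  refine ⟨W, ObjectProperty.homMk (i.hom ≫ p), ObjectProperty.homMk gW, ?_,
    isIntegralMor_comp (isIntegralMor_of_closedImmersion hi.1) hp, ?_⟩
  · change gW ≫ i.hom ≫ p = f.hom
    rw [← Category.assoc, hgW, hgP]
  intro Z hZ π g hπ hg
  let Zs : Space S := ⟨Z, hZ⟩
  obtain ⟨V, c, hc⟩ := exists_isSchImage (ObjectProperty.homMk g : Y ⟶ Zs)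
  obtain ⟨gV, hgV⟩ := hc.2.1
  let FV : DomFact f :=
    { Z := V
      π := c.hom ≫ π
      g := gV
      hint := isIntegralMor_comp (isIntegralMor_of_closedImmersion hc.1) hπ
      hw := by rw [← Category.assoc, hgV]; exact hg
      hdom := isSchImage_id_of_image hc hgV }
  let σ : ι := ⟨D.data FV, FV, rfl⟩
  obtain ⟨k, hk₁, hk₂⟩ := exists_compare hqc D (F σ) FV (hF σ)
  have hk₁ : (F σ).g ≫ k = gV := hk₁
  have hk₂ : k ≫ c.hom ≫ π = (F σ).π := hk₂
  refine ⟨i.hom ≫ pr σ ≫ k ≫ c.hom, ⟨?_, ?_⟩, ?_⟩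
  · change gW ≫ i.hom ≫ pr σ ≫ k ≫ c.hom = g
    rw [← Category.assoc, hgW, ← Category.assoc, hgPσ σ, ← Category.assoc, hk₁]
    exact hgV
  · change (i.hom ≫ pr σ ≫ k ≫ c.hom) ≫ π = i.hom ≫ p
    rw [← hpr σ, ← hk₂]
    simp only [Category.assoc]
  rintro h ⟨hh₁, hh₂⟩
  set h₀ := i.hom ≫ pr σ ≫ k ≫ c.hom with hh₀
  have h₀₁ : gW ≫ h₀ = g := by
    rw [hh₀, ← Category.assoc, hgW, ← Category.assoc, hgPσ σ, ← Category.assoc, hk₁]
    exact hgV
  have h₀₂ : h₀ ≫ π = i.hom ≫ p := by
    rw [hh₀, ← hpr σ, ← hk₂]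
    simp only [Category.assoc]
  have hh₁ : gW ≫ h = g := hh₁
  have hh₂ : h ≫ π = i.hom ≫ p := hh₂
  let l : W.obj ⟶ pullback π π := pullback.lift h h₀ (hh₂.trans h₀₂.symm)
  have sqE := IsPullback.of_hasPullback l (pullback.diagonal π)
  have he : RepWith @IsClosedImmersion (pullback.fst l (pullback.diagonal π)) :=
    repWith_of_isPullback sqE.flip (isSeparatedMor_of_integral hZ X.property hπ)
  obtain ⟨t, ht⟩ := hi.2.2 (pullback.fst l (pullback.diagonal π) ≫ i.hom)
    (isAlgSpace_of_representable he.1 W.property) (repWith_comp he hi.1)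
    ⟨pullback.lift gW g (by
      refine pullback.hom_ext ?_ ?_
      · rw [Category.assoc, Category.assoc, pullback.lift_fst, pullback.diagonal_fst, Category.comp_id]
        exact hh₁
      · rw [Category.assoc, Category.assoc, pullback.lift_snd, pullback.diagonal_snd, Category.comp_id]
        exact h₀₁), by rw [← Category.assoc, pullback.lift_fst]; exact hgW⟩
  have := mono_of_repWith_closedImmersion hi.1
  have ht' : t ≫ pullback.fst l (pullback.diagonal π) = 𝟙 W.obj := by
    rw [← cancel_mono i.hom, Category.assoc, ht, Category.id_comp]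
  have hcond := congrArg (t ≫ ·) (pullback.condition (f := l) (g := pullback.diagonal π))
  simp only [← Category.assoc, ht', Category.id_comp] at hcond
  have e₁ := congrArg (· ≫ pullback.fst π π) hcond
  have e₂ := congrArg (· ≫ pullback.snd π π) hcond
  simp only [Category.assoc, l, pullback.lift_fst, pullback.lift_snd, pullback.diagonal_fst,
    pullback.diagonal_snd, Category.comp_id] at e₁ e₂
  exact e₁.trans e₂.symm

end Groth.Agent.RelNorm14
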