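import Groth.Agent.Lib.RelNorm14.Dominant
import Mathlib.AlgebraicGeometry.Morphisms.IsIso

/-!
# Existence of relative normalizations
-/

universe u

set_option backward.isDefEq.respectTransparency.types false
set_option linter.unusedVariables false

open CategoryTheory CategoryTheory.Limits AlgebraicGeometry AlgSp Opposite
open Groth.Agent.AlgSpace Groth.Agent.SchImage14 Groth.Agent.AlgSpDescent

namespace Groth.Agent.RelNorm14

variable {S : Scheme.{u}} {Y X : Space S} {f : Y ⟶ X}

/-- A schematically dominant factorisation through an integral morphism. -/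
structure DomFact (f : Y ⟶ X) where
  Z : Space S
  π : Z.obj ⟶ X.obj
  g : Y.obj ⟶ Z.obj
  hint : IsIntegralMor π
  hw : g ≫ π = f.hom
  hdom : IsSchImage g (𝟙 Z.obj)

/-- An affine étale atlas of the target with affine charts of the source over it. -/
structure Setup (f : Y ⟶ X) where
  κ : Type u
  W : κ → Over S
  hW : ∀ j, IsAffine (W j).left
  φ : (yon S).obj (coprodOver W) ⟶ X.obj
  hφe : RepWith @Etale φ
  hφs : RepWith @Surjective φ
  A : κ → Over S
  r : ∀ j, (yon S).obj (A j) ⟶ pullback f.hom ((yon S).map (coprodOverι W j) ≫ φ)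
  hA : ∀ j, IsAffine (A j).left
  hre : ∀ j, RepWith @Etale (r j)
  hrs : ∀ j, RepWith @Surjective (r j)

theorem exists_setup (hqc : IsQuasiCompactMor f.hom) : Nonempty (Setup f) := by
  obtain ⟨κ, W, φ, hW, hφe, hφs⟩ := exists_affines_atlas X.property
  have hP : ∀ j, IsQuasiCompactSp (pullback f.hom ((yon S).map (coprodOverι W j) ≫ φ)) := fun j => by
    have := hW j
    exact hqc (IsAlgSpace.yon_obj _) ((isQuasiCompactSp_iff (IsAlgSpace.yon_obj _)).2
      (compactSpace_yon_of_affine (W j))) _ _ _ (IsPullback.of_hasPullback _ _)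
  choose A r hA hre hrs using fun j => exists_affine_chart (hP j)
  exact ⟨⟨κ, W, hW, φ, hφe, hφs, A, r, hA, hre, hrs⟩⟩

namespace Setup

variable (D : Setup f) (F : DomFact f)

/-- The chart of the target. -/
noncomputable def y (j : D.κ) : (yon S).obj (D.W j) ⟶ X.obj := (yon S).map (coprodOverι D.W j) ≫ D.φ

theorem hye (j : D.κ) : RepWith @Etale (D.y j) :=
  repWith_comp ((repWith_yon_map_iff _ _).2 (inferInstanceAs (Etale (Sigma.ι (fun j => (D.W j).left) j)))) D.hφe

/-- The chart of the source, mapped to the source. -/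
noncomputable def a (j : D.κ) : (yon S).obj (D.A j) ⟶ Y.obj := D.r j ≫ pullback.fst _ _

/-- The chart of the source, mapped to the chart of the target. -/
noncomputable def c (j : D.κ) : D.A j ⟶ D.W j := (yon S).preimage (D.r j ≫ pullback.snd _ _)

theorem a_comp (j : D.κ) : D.a j ≫ f.hom = (yon S).map (D.c j) ≫ D.y j := by
  rw [a, c, Functor.map_preimage, Category.assoc, Category.assoc, pullback.condition]
  rfl

/-- The preimage of the whole chart. -/
noncomputable def N : Over S := ((isIntegralMor_iff_repWith.1 F.hint).1).pullback D.φ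

/-- Its structure map. -/
noncomputable def n : D.N F ⟶ coprodOver D.W := ((isIntegralMor_iff_repWith.1 F.hint).1).snd D.φ

/-- Its map to the space. -/
noncomputable def nfst : (yon S).obj (D.N F) ⟶ F.Z.obj := ((isIntegralMor_iff_repWith.1 F.hint).1).fst D.φ

theorem sqN : IsPullback (D.nfst F) ((yon S).map (D.n F)) F.π D.φ :=
  ((isIntegralMor_iff_repWith.1 F.hint).1).isPullback D.φ

theorem isIntegralHom_n : IsIntegralHom (D.n F).left :=
  (isIntegralMor_iff_repWith.1 F.hint).2 _ _ _ (D.sqN F)

/-- The preimage of a piece of the chart. -/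
noncomputable abbrev Nj (j : D.κ) : Over S := pullback (D.n F) (coprodOverι D.W j)

theorem sqNj (j : D.κ) : IsPullback ((yon S).map (pullback.fst (D.n F) (coprodOverι D.W j)) ≫ D.nfst F)
    ((yon S).map (pullback.snd (D.n F) (coprodOverι D.W j))) F.π (D.y j) :=
  ((IsPullback.of_hasPullback (D.n F) (coprodOverι D.W j)).map (yon S)).paste_horiz (D.sqN F)

theorem isIntegralHom_nj (j : D.κ) : IsIntegralHom (pullback.snd (D.n F) (coprodOverι D.W j)).left :=
  (isIntegralMor_iff_repWith.1 F.hint).2 _ _ _ (D.sqNj F j)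

theorem isAffine_Nj (j : D.κ) : IsAffine (D.Nj F j).left :=
  have := D.hW j
  have := D.isIntegralHom_nj F j
  isAffine_of_isAffineHom (pullback.snd (D.n F) (coprodOverι D.W j)).left

theorem nfst_etale (j : D.κ) :
    RepWith @Etale ((yon S).map (pullback.fst (D.n F) (coprodOverι D.W j)) ≫ D.nfst F) :=
  repWith_of_isPullback (D.sqNj F j).flip (D.hye j)

/-- The lift of the chart of the source. -/
noncomputable def m (j : D.κ) : D.A j ⟶ D.Nj F j :=
  (yon S).preimage ((D.sqNj F j).lift (D.a j ≫ F.g) ((yon S).map (D.c j))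
    (by rw [Category.assoc, F.hw, D.a_comp]))

theorem m_fst (j : D.κ) : (yon S).map (D.m F j) ≫
    (yon S).map (pullback.fst (D.n F) (coprodOverι D.W j)) ≫ D.nfst F = D.a j ≫ F.g := by
  rw [m, Functor.map_preimage, IsPullback.lift_fst]

theorem m_snd (j : D.κ) : D.m F j ≫ pullback.snd (D.n F) (coprodOverι D.W j) = D.c j :=
  (yon S).map_injective (by rw [Functor.map_comp, m, Functor.map_preimage, IsPullback.lift_snd])

theorem injective_m (hqc : IsQuasiCompactMor f.hom) (j : D.κ) :
    Function.Injective (D.m F j).left.appTop := by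
  have := D.isAffine_Nj F j
  have := D.hA j
  have hq : IsQuasiCompactMor F.g := isQuasiCompactMor_of_comp Y.property F.Z.property X.property
    (F.hw.symm ▸ hqc)
    (isQuasiSeparatedMor_of_separated (isSeparatedMor_of_integral F.Z.property X.property F.hint))
  have sqP := IsPullback.of_hasPullback f.hom (D.y j)
  have sq : IsPullback (pullback.fst f.hom (D.y j))
      ((D.sqNj F j).lift (pullback.fst f.hom (D.y j) ≫ F.g) (pullback.snd f.hom (D.y j))
        (by rw [Category.assoc, F.hw, pullback.condition]))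
      F.g ((yon S).map (pullback.fst (D.n F) (coprodOverι D.W j)) ≫ D.nfst F) := by
    refine IsPullback.of_bot ?_ ((D.sqNj F j).lift_fst _ _ _).symm (D.sqNj F j)
    simp only [IsPullback.lift_snd]
    exact F.hw.symm ▸ sqP
  refine dominant_injective Y.property F.Z.property hq F.hdom (D.nfst_etale F j) sq (r := D.r j)
    (D.hre j) (D.hrs j) (D.m F j) ((D.sqNj F j).hom_ext ?_ ?_)
  · rw [D.m_fst F j, Category.assoc, IsPullback.lift_fst]
    exact Category.assoc _ _ _
  · rw [← Functor.map_comp, D.m_snd F j, Category.assoc, IsPullback.lift_snd, c, Functor.map_preimage]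
    rfl

/-- The functions of the integral morphism, as functions on the charts of the source. -/
def data : ∀ j, Set Γ((D.A j).left, ⊤) := fun j => Set.range (D.m F j).left.appTop

end Setup

theorem exists_hom_of_ringHom {U V : Scheme.{u}} [IsAffine U] [IsAffine V] (ψ : Γ(V, ⊤) ⟶ Γ(U, ⊤)) :
    ∃ h : U ⟶ V, h.appTop = ψ := by
  refine ⟨U.isoSpec.hom ≫ Spec.map ψ ≫ V.isoSpec.inv, Spec.map_injective ?_⟩
  rw [← cancel_epi U.isoSpec.hom, Scheme.isoSpec_hom_naturality]
  simp

theorem isIso_of_bijective_appTop {U V : Scheme.{u}} [IsAffine U] [IsAffine V] (h : U ⟶ V)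
    (hb : Function.Bijective h.appTop) : IsIso h := by
  have : IsIso h.appTop := (ConcreteCategory.isIso_iff_bijective _).2 hb
  have e : h = U.isoSpec.hom ≫ Spec.map h.appTop ≫ V.isoSpec.inv := by
    rw [Scheme.isoSpec_hom_naturality_assoc]
    simp
  rw [e]
  infer_instance

/-- Dominant integral factorisations with the same functions map to each other. -/
theorem exists_compare (hqc : IsQuasiCompactMor f.hom) (D : Setup f) (F₁ F₂ : DomFact f)
    (he : D.data F₁ = D.data F₂) :
    ∃ k : F₁.Z.obj ⟶ F₂.Z.obj, F₁.g ≫ k = F₂.g ∧ k ≫ F₂.π = F₁.π := by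
  let p₁ := pullback.fst F₁.π F₂.π
  let p₂ := pullback.snd F₁.π F₂.π
  have sq₁₂ := IsPullback.of_hasPullback F₁.π F₂.π
  let P : Space S := ⟨pullback F₁.π F₂.π, isAlgSpace_pullback X.property F₁.Z.property F₂.Z.property sq₁₂⟩
  let g₁₂ : Y ⟶ P := ObjectProperty.homMk (pullback.lift F₁.g F₂.g (F₁.hw.trans F₂.hw.symm))
  obtain ⟨W, i, hi⟩ := exists_isSchImage g₁₂
  obtain ⟨gW, hgW⟩ := hi.2.1
  have hp₁ : IsIntegralMor p₁ := isIntegralMor_iff_repWith.2
    (repWith_of_isPullback sq₁₂.flip (isIntegralMor_iff_repWith.1 F₂.hint))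
  let FW : DomFact f :=
    { Z := W
      π := (i.hom ≫ p₁) ≫ F₁.π
      g := gW
      hint := isIntegralMor_comp (isIntegralMor_comp (isIntegralMor_of_closedImmersion hi.1) hp₁) F₁.hint
      hw := by
        rw [← Category.assoc, ← Category.assoc, hgW]
        exact (congrArg (· ≫ F₁.π) (pullback.lift_fst _ _ _)).trans F₁.hw
      hdom := isSchImage_id_of_image hi hgW }
  let r : D.N FW ⟶ D.N F₁ := (yon S).preimage ((D.sqN F₁).lift (D.nfst FW ≫ i.hom ≫ p₁)
    ((yon S).map (D.n FW)) (by
      rw [← (D.sqN FW).w]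
      simp only [Category.assoc]
      rfl))
  have hr : (yon S).map r ≫ (yon S).map (D.n F₁) = (yon S).map (D.n FW) := by
    simp [r]
  have hr' : r ≫ D.n F₁ = D.n FW := (yon S).map_injective (by rw [Functor.map_comp, hr])
  have hrf : (yon S).map r ≫ D.nfst F₁ = D.nfst FW ≫ i.hom ≫ p₁ := by simp [r]
  have hiso : ∀ j, IsIso (pullback.map (D.n FW) (coprodOverι D.W j) (D.n F₁) (coprodOverι D.W j) r (𝟙 _) (𝟙 _)
      (by rw [hr', Category.comp_id]) (by simp)).left := by
    intro j
    let rj := pullback.map (D.n FW) (coprodOverι D.W j) (D.n F₁) (coprodOverι D.W j) r (𝟙 _) (𝟙 _)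
      (by rw [hr', Category.comp_id]) (by simp)
    change IsIso rj.left
    have := D.isAffine_Nj FW j
    have := D.isAffine_Nj F₁ j
    have := D.isAffine_Nj F₂ j
    have := D.hW j
    have := D.hA j
    obtain ⟨r₂, hr₂⟩ := (yon S).map_surjective ((D.sqNj F₂ j).lift
      (((yon S).map (pullback.fst (D.n FW) (coprodOverι D.W j)) ≫ D.nfst FW) ≫ i.hom ≫ p₂)
      ((yon S).map (pullback.snd (D.n FW) (coprodOverι D.W j))) (by
        refine Eq.trans ?_ (D.sqNj FW j).w
        simp only [Category.assoc, p₂, ← pullback.condition]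
        rfl))
    have hrj_snd : rj ≫ pullback.snd (D.n F₁) (coprodOverι D.W j) = pullback.snd (D.n FW) (coprodOverι D.W j) :=
      (pullback.lift_snd _ _ _).trans (Category.comp_id _)
    have hrj_fst' : rj ≫ pullback.fst (D.n F₁) (coprodOverι D.W j) = pullback.fst (D.n FW) (coprodOverι D.W j) ≫ r :=
      pullback.lift_fst _ _ _
    have hrj_fst : (yon S).map rj ≫ (yon S).map (pullback.fst (D.n F₁) (coprodOverι D.W j)) ≫ D.nfst F₁ =
        (((yon S).map (pullback.fst (D.n FW) (coprodOverι D.W j)) ≫ D.nfst FW) ≫ i.hom ≫ p₁) := by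
      rw [← Functor.map_comp_assoc, hrj_fst',
        Functor.map_comp_assoc, hrf]
      simp only [Category.assoc]
    have hr₂snd : r₂ ≫ pullback.snd (D.n F₂) (coprodOverι D.W j) = pullback.snd (D.n FW) (coprodOverι D.W j) :=
      (yon S).map_injective (by rw [Functor.map_comp, hr₂, IsPullback.lift_snd])
    have hm₁ : D.m FW j ≫ rj = D.m F₁ j := by
      refine (yon S).map_injective ((D.sqNj F₁ j).hom_ext ?_ ?_)
      · rw [Functor.map_comp, Category.assoc, hrj_fst, D.m_fst F₁ j, ← Category.assoc, D.m_fst FW j,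
          Category.assoc, reassoc_of% hgW]
        exact congrArg (D.a j ≫ ·) (pullback.lift_fst _ _ _)
      · rw [← Functor.map_comp, ← Functor.map_comp, Category.assoc, hrj_snd, D.m_snd, D.m_snd]
    have hm₂ : D.m FW j ≫ r₂ = D.m F₂ j := by
      refine (yon S).map_injective ((D.sqNj F₂ j).hom_ext ?_ ?_)
      · rw [Functor.map_comp, Category.assoc, hr₂, IsPullback.lift_fst, D.m_fst F₂ j, ← Category.assoc,
          D.m_fst FW j, Category.assoc, reassoc_of% hgW]
        exact congrArg (D.a j ≫ ·) (pullback.lift_snd _ _ _)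
      · rw [← Functor.map_comp, ← Functor.map_comp, Category.assoc, hr₂snd, D.m_snd, D.m_snd]
    let M₁ := (D.m F₁ j).left.appTop.hom
    let M₂ := (D.m F₂ j).left.appTop.hom
    let MW := (D.m FW j).left.appTop.hom
    have hMW : Function.Injective MW := D.injective_m FW hqc j
    have hM₁ : Function.Injective M₁ := D.injective_m F₁ hqc j
    have hM₁e : M₁ = MW.comp rj.left.appTop.hom := by
      change (D.m F₁ j).left.appTop.hom = _
      rw [← hm₁, Over.comp_left, Scheme.Hom.comp_appTop]
      rfl
    have hM₂e : M₂ = MW.comp r₂.left.appTop.hom := by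
      change (D.m F₂ j).left.appTop.hom = _
      rw [← hm₂, Over.comp_left, Scheme.Hom.comp_appTop]
      rfl
    have hmem : ∀ z, M₂ z ∈ M₁.range := fun z => by
      have hz : M₂ z ∈ D.data F₂ j := ⟨z, rfl⟩
      rwa [← he] at hz
    let ψ : Γ((D.Nj F₂ j).left, ⊤) ⟶ Γ((D.Nj F₁ j).left, ⊤) := CommRingCat.ofHom
      (((RingEquiv.ofBijective M₁.rangeRestrict ⟨fun a b h => hM₁ (congrArg Subtype.val h),
        M₁.rangeRestrict_surjective⟩).symm.toRingHom).comp (M₂.codRestrict M₁.range hmem))
    have hψ : ∀ z, M₁ (ψ.hom z) = M₂ z := fun z =>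
      congrArg Subtype.val ((RingEquiv.ofBijective M₁.rangeRestrict ⟨fun a b h => hM₁ (congrArg Subtype.val h),
        M₁.rangeRestrict_surjective⟩).apply_symm_apply _)
    obtain ⟨h₀, hh₀⟩ := exists_hom_of_ringHom ψ
    have hh₀n : h₀ ≫ (pullback.snd (D.n F₂) (coprodOverι D.W j)).left =
        (pullback.snd (D.n F₁) (coprodOverι D.W j)).left := by
      refine ext_of_isAffine (CommRingCat.hom_ext (RingHom.ext fun w => hM₁ ?_))
      rw [Scheme.Hom.comp_appTop, hh₀]
      refine (hψ _).trans ?_
      have e₁ := congrArg (fun k : D.A j ⟶ D.W j => k.left.appTop.hom w)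
        ((D.m_snd F₂ j).trans (D.m_snd F₁ j).symm)
      simp only [Over.comp_left, Scheme.Hom.comp_appTop] at e₁
      exact e₁
    let h : D.Nj F₁ j ⟶ D.Nj F₂ j := Over.homMk h₀ (by
      rw [← Over.w (pullback.snd (D.n F₂) (coprodOverι D.W j)), ← Category.assoc, hh₀n, Over.w])
    have hrh : rj ≫ h = r₂ := by
      refine Over.OverMorphism.ext (ext_of_isAffine (CommRingCat.hom_ext (RingHom.ext fun z => hMW ?_)))
      change MW ((rj.left ≫ h₀).appTop.hom z) = MW (r₂.left.appTop.hom z)
      rw [Scheme.Hom.comp_appTop, hh₀]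
      have e₁ : MW (rj.left.appTop.hom (ψ.hom z)) = M₁ (ψ.hom z) := by rw [hM₁e]; rfl
      have e₂ : MW (r₂.left.appTop.hom z) = M₂ z := by rw [hM₂e]; rfl
      exact e₁.trans ((hψ z).trans e₂.symm)
    let n₁ := pullback.snd (D.n F₁) (coprodOverι D.W j)
    let n₂ := pullback.snd (D.n F₂) (coprodOverι D.W j)
    let z₁ := (yon S).map (pullback.fst (D.n F₁) (coprodOverι D.W j)) ≫ D.nfst F₁
    let z₂ := (yon S).map (pullback.fst (D.n F₂) (coprodOverι D.W j)) ≫ D.nfst F₂
    let lQ : (yon S).obj (pullback n₁ n₂) ⟶ P.obj := sq₁₂.lift ((yon S).map (pullback.fst n₁ n₂) ≫ z₁)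
      ((yon S).map (pullback.snd n₁ n₂) ≫ z₂) (by
        rw [Category.assoc _ z₁, Category.assoc _ z₂, show z₁ ≫ F₁.π = _ from (D.sqNj F₁ j).w,
          show z₂ ≫ F₂.π = _ from (D.sqNj F₂ j).w, ← Functor.map_comp_assoc,
          ← Functor.map_comp_assoc, pullback.condition])
    have sqQ : IsPullback lQ ((yon S).map (pullback.fst n₁ n₂ ≫ n₁)) (p₁ ≫ F₁.π) (D.y j) := by
      refine isPullback_of_yon ?_ fun T x y hxy => ?_
      · rw [← Category.assoc, sq₁₂.lift_fst, Category.assoc, (D.sqNj F₁ j).w, ← Functor.map_comp_assoc]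
      · obtain ⟨y, rfl⟩ := (yon S).map_surjective y
        have w₁ : (x ≫ p₁) ≫ F₁.π = (yon S).map y ≫ D.y j := by rw [Category.assoc]; exact hxy
        have w₂ : (x ≫ p₂) ≫ F₂.π = (yon S).map y ≫ D.y j := by
          rw [Category.assoc, ← pullback.condition]; exact hxy
        obtain ⟨a₁, ha₁⟩ := (yon S).map_surjective ((D.sqNj F₁ j).lift _ _ w₁)
        obtain ⟨a₂, ha₂⟩ := (yon S).map_surjective ((D.sqNj F₂ j).lift _ _ w₂)
        have e₁ : a₁ ≫ n₁ = y := (yon S).map_injective (by rw [Functor.map_comp, ha₁, IsPullback.lift_snd])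
        have e₂ : a₂ ≫ n₂ = y := (yon S).map_injective (by rw [Functor.map_comp, ha₂, IsPullback.lift_snd])
        refine ⟨(yon S).map (pullback.lift a₁ a₂ (e₁.trans e₂.symm)), ⟨?_, ?_⟩, ?_⟩
        · refine sq₁₂.hom_ext ?_ ?_
          · rw [Category.assoc, sq₁₂.lift_fst, ← Functor.map_comp_assoc, pullback.lift_fst, ha₁,
              IsPullback.lift_fst]
          · rw [Category.assoc, sq₁₂.lift_snd, ← Functor.map_comp_assoc, pullback.lift_snd, ha₂,
              IsPullback.lift_fst]
        · rw [← Functor.map_comp, pullback.lift_fst_assoc, e₁]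
        · rintro l' ⟨h₁, h₂⟩
          obtain ⟨l', rfl⟩ := (yon S).map_surjective l'
          rw [← Functor.map_comp] at h₂
          have h₂ := (yon S).map_injective h₂
          refine congrArg _ (pullback.hom_ext ?_ ?_)
          · rw [pullback.lift_fst]
            refine (yon S).map_injective ((D.sqNj F₁ j).hom_ext ?_ ?_)
            · rw [ha₁, IsPullback.lift_fst, ← h₁, Category.assoc, sq₁₂.lift_fst, Functor.map_comp,
                Category.assoc]
            · rw [← Functor.map_comp, ← Functor.map_comp, Category.assoc, h₂, e₁]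
          · rw [pullback.lift_snd]
            refine (yon S).map_injective ((D.sqNj F₂ j).hom_ext ?_ ?_)
            · rw [ha₂, IsPullback.lift_fst, ← h₁, Category.assoc, sq₁₂.lift_snd, Functor.map_comp,
                Category.assoc]
            · rw [← Functor.map_comp, ← Functor.map_comp, Category.assoc, ← pullback.condition, h₂, e₂]
    let k : D.Nj FW j ⟶ pullback n₁ n₂ := pullback.lift rj r₂ (hrj_snd.trans hr₂snd.symm)
    have hk : IsClosedImmersion k.left := by
      refine hi.1.2 lQ ((yon S).map (pullback.fst (D.n FW) (coprodOverι D.W j)) ≫ D.nfst FW) k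
        (IsPullback.of_bot ?_ ?_ sqQ)
      · rw [← Functor.map_comp, pullback.lift_fst_assoc, hrj_snd]
        have := D.sqNj FW j
        exact Category.assoc i.hom p₁ F₁.π ▸ this
      · refine sq₁₂.hom_ext ?_ ?_
        · simp only [lQ, Category.assoc, sq₁₂.lift_fst]
          rw [← Functor.map_comp_assoc, pullback.lift_fst]
          exact ((hrj_fst.trans (by simp only [Category.assoc]; rfl)).symm)
        · simp only [lQ, Category.assoc, sq₁₂.lift_snd]
          rw [← Functor.map_comp_assoc, pullback.lift_snd, hr₂, IsPullback.lift_fst]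
          simp only [Category.assoc]
          rfl
    let s : D.Nj F₁ j ⟶ pullback n₁ n₂ := pullback.lift (𝟙 (D.Nj F₁ j)) h (by
      refine Over.OverMorphism.ext ?_
      rw [Category.id_comp]
      exact hh₀n.symm)
    have hks : rj ≫ s = k := by
      apply pullback.hom_ext
      · exact (Category.assoc _ _ _).trans ((congrArg (rj ≫ ·) (pullback.lift_fst _ _ _)).trans
          ((Category.comp_id _).trans (pullback.lift_fst _ _ _).symm))
      · exact (Category.assoc _ _ _).trans ((congrArg (rj ≫ ·) (pullback.lift_snd _ _ _)).trans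
          (hrh.trans (pullback.lift_snd _ _ _).symm))
    refine isIso_of_bijective_appTop rj.left ⟨fun a b hab => hM₁ ?_, fun b => ?_⟩
    · rw [hM₁e]
      exact congrArg MW hab
    · have : IsAffine (pullback n₁ n₂).left := by
        have := D.isIntegralHom_nj F₂ j
        have : IsAffineHom (pullback.fst n₁ n₂).left := MorphismProperty.of_isPullback
          (P := @IsAffineHom) ((IsPullback.of_hasPullback n₁ n₂).map (Over.forget S)).flip
          (inferInstanceAs (IsAffineHom n₂.left))
        exact isAffine_of_isAffineHom (pullback.fst n₁ n₂).left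
      obtain ⟨z, hz⟩ := ((isClosedImmersion_iff_isAffineHom (f := k.left)).1 hk).2 ⊤ (isAffineOpen_top _) b
      refine ⟨s.left.appTop z, ?_⟩
      rw [← hks] at hz
      exact hz
  have hriso : IsIso r.left := by
    let 𝒰 := (sigmaOpenCover fun j => (D.W j).left).pullback₁ (D.n F₁).left
    refine (IsZariskiLocalAtTarget.iff_of_openCover (P := MorphismProperty.isomorphisms Scheme.{u}) 𝒰).2
      fun j => ?_
    let rj := pullback.map (D.n FW) (coprodOverι D.W j) (D.n F₁) (coprodOverι D.W j) r (𝟙 (D.W j))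
      (𝟙 (coprodOver D.W)) (by rw [hr', Category.comp_id]) (by simp)
    have sqW := (IsPullback.of_hasPullback (D.n FW) (coprodOverι D.W j))
    have sq₁ := (IsPullback.of_hasPullback (D.n F₁) (coprodOverι D.W j))
    have top : IsPullback (pullback.fst (D.n FW) (coprodOverι D.W j)) rj r
        (pullback.fst (D.n F₁) (coprodOverι D.W j)) := by
      refine IsPullback.of_bot ?_ (pullback.lift_fst _ _ _).symm sq₁
      rw [hr', show rj ≫ pullback.snd (D.n F₁) (coprodOverι D.W j) = pullback.snd (D.n FW) (coprodOverι D.W j)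
        from (pullback.lift_snd _ _ _).trans (Category.comp_id _)]
      exact sqW
    let e := (sq₁.map (Over.forget S)).isoPullback
    have top' := (top.map (Over.forget S)).of_iso (Iso.refl _) (Iso.refl _) e (Iso.refl _)
      (snd' := rj.left ≫ e.hom)
      (fst' := (pullback.fst (D.n FW) (coprodOverι D.W j)).left) (f' := r.left)
      (g' := pullback.fst (D.n F₁).left (coprodOverι D.W j).left)
      (by simp) (by simp) (by simp) (by simp [e])
    have : IsIso (rj.left ≫ e.hom) := by
      have : IsIso rj.left := hiso j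
      infer_instance
    have h : MorphismProperty.isomorphisms Scheme.{u} (rj.left ≫ e.hom) := this
    exact ((MorphismProperty.isomorphisms Scheme.{u}).arrow_mk_iso_iff
      (Arrow.isoMk top'.isoPullback (Iso.refl _)
        (top'.isoPullback_hom_snd.trans (Category.comp_id _).symm))).1 h
  have : IsIso r := by
    have : IsIso ((Over.forget S).map r) := hriso
    exact isIso_of_reflects_iso r (Over.forget S)
  let pr : W.obj ⟶ F₁.Z.obj := i.hom ≫ p₁
  have sqpr : IsPullback (D.nfst FW) ((yon S).map r) pr (D.nfst F₁) := by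
    refine IsPullback.of_bot ?_ ?_ (D.sqN F₁)
    · rw [hr]; exact D.sqN FW
    · exact hrf.symm
  have : IsIso pr := isIso_of_etale_cover (repWith_of_isPullback (D.sqN F₁).flip D.hφe)
    (repWith_of_isPullback (D.sqN F₁).flip D.hφs) sqpr
  have h1 : gW ≫ pr = F₁.g := by
    rw [← Category.assoc, hgW]; exact pullback.lift_fst _ _ _
  refine ⟨inv pr ≫ i.hom ≫ p₂, ?_, ?_⟩
  · rw [← h1, Category.assoc, IsIso.hom_inv_id_assoc, ← Category.assoc, hgW]
    exact pullback.lift_snd _ _ _
  · rw [Category.assoc, IsIso.inv_comp_eq, Category.assoc]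
    exact (congrArg (i.hom ≫ ·) pullback.condition.symm).trans (Category.assoc _ _ _).symm

end Groth.Agent.RelNorm14
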