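import Groth.Agent.Lib.RelNorm14.Product
import Groth.Agent.Lib.SchImage14.Apps
import Groth.Agent.Lib.AlgSpace.MorDiag
import Groth.Agent.Lib.AlgSpace.QC
import Groth.Prelude.Def_AlgSpMor5

/-!
# Schematically dominant morphisms and integral morphisms
-/

universe u

set_option backward.isDefEq.respectTransparency.types false
set_option linter.unusedVariables false

open CategoryTheory CategoryTheory.Limits AlgebraicGeometry AlgSp Opposite
open Groth.Agent.AlgSpace Groth.Agent.SchImage14 Groth.Agent.AlgSpDescent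

namespace Groth.Agent.RelNorm14

variable {S : Scheme.{u}}

theorem isIntegralMor_comp {F G H : Sp S} {f : F ⟶ G} {g : G ⟶ H} (hf : IsIntegralMor f)
    (hg : IsIntegralMor g) : IsIntegralMor (f ≫ g) :=
  isIntegralMor_iff_repWith.2 (repWith_comp (isIntegralMor_iff_repWith.1 hf) (isIntegralMor_iff_repWith.1 hg))

theorem isIntegralMor_of_closedImmersion {F G : Sp S} {f : F ⟶ G} (hf : RepWith @IsClosedImmersion f) :
    IsIntegralMor f :=
  isIntegralMor_iff_repWith.2 (repWith_mono (Q := @IsIntegralHom) (fun _ _ k (hk : IsClosedImmersion k) => inferInstance) hf)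

theorem isSeparatedMor_of_integral {F G : Sp S} (hF : IsAlgSpace F) (hG : IsAlgSpace G) {f : F ⟶ G}
    (hf : IsIntegralMor f) : IsSeparatedMor f :=
  (isSeparatedMor_iff_of_representable hF hG (isIntegralMor_iff_repWith.1 hf).1).2
    (repWith_mono (Q := @IsSeparated) (fun _ _ k (hk : IsIntegralHom k) => inferInstance) (isIntegralMor_iff_repWith.1 hf))

theorem isQuasiSeparatedMor_of_separated {F G : Sp S} {f : F ⟶ G} (hf : IsSeparatedMor f) :
    IsQuasiSeparatedMor f :=
  repWith_mono (Q := @QuasiCompact) (fun _ _ k (hk : IsClosedImmersion k) => inferInstance) hf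

/-- A monomorphism being a base change along a surjective étale map of an isomorphism is one. -/
theorem isIso_of_etale_cover {F G : Sp S} {f : F ⟶ G} {U V : Over S} {a : (yon S).obj V ⟶ G}
    (hae : RepWith @Etale a) (has : RepWith @Surjective a) {fst : (yon S).obj U ⟶ F} {s : U ⟶ V}
    (sq : IsPullback fst ((yon S).map s) f a) [IsIso s] : IsIso f := by
  have := isLocallySurjective_of_etale hae has
  have : Epi a := Sheaf.epi_of_isLocallySurjective' _
  have : Epi f := by
    refine ⟨fun {Q} x y h => ?_⟩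
    rw [← cancel_epi a]
    have hw : a = (yon S).map (inv s) ≫ fst ≫ f := by
      rw [sq.w, ← Functor.map_comp_assoc, IsIso.inv_hom_id, (yon S).map_id, Category.id_comp]
    rw [hw, Category.assoc, Category.assoc, Category.assoc, Category.assoc, h]
  have : Mono f := by
    refine mono_of_yon f fun T x y hxy => ?_
    have sqT := hae.1.isPullback (x ≫ f)
    have hq := isLocallySurjective_of_etale (repWith_of_isPullback sqT hae) (repWith_of_isPullback sqT has)
    have : Epi ((yon S).map (hae.1.snd (x ≫ f))) := Sheaf.epi_of_isLocallySurjective' _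
    rw [← cancel_epi ((yon S).map (hae.1.snd (x ≫ f)))]
    have wx : ((yon S).map (hae.1.snd (x ≫ f)) ≫ x) ≫ f = hae.1.fst (x ≫ f) ≫ a := by
      rw [Category.assoc, sqT.w]
    have wy : ((yon S).map (hae.1.snd (x ≫ f)) ≫ y) ≫ f = hae.1.fst (x ≫ f) ≫ a := by
      rw [Category.assoc, ← hxy, sqT.w]
    have e : sq.lift _ _ wx = sq.lift _ _ wy := by
      rw [← cancel_mono ((yon S).map s), sq.lift_snd, sq.lift_snd]
    rw [← sq.lift_fst _ _ wx, e, sq.lift_fst]
  exact isIso_of_mono_of_epi f

/-- The factorisation through the scheme theoretic image is schematically dominant. -/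
theorem isSchImage_id_of_image {F G W : Sp S} {g : F ⟶ G} {i : W ⟶ G}
    (hi : IsSchImage g i) {g' : F ⟶ W} (hg' : g' ≫ i = g) :
    IsSchImage g' (𝟙 W) := by
  refine ⟨MorphismProperty.id_mem _ _, ⟨g', Category.comp_id _⟩, fun Z j hZ hj hjf => ?_⟩
  obtain ⟨l, hl⟩ := hjf
  obtain ⟨k, hk⟩ := hi.2.2 (j ≫ i) hZ (repWith_comp hj hi.1) ⟨l, by rw [← Category.assoc, hl, hg']⟩
  have := mono_of_repWith_closedImmersion hi.1
  exact ⟨k, by rw [← cancel_mono i, Category.assoc, hk, Category.id_comp]⟩

/-- A schematically dominant quasi-compact morphism gives injections of rings on affine étale charts. -/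
theorem dominant_injective {F G : Sp S} (hF : IsAlgSpace F) (hG : IsAlgSpace G) {g : F ⟶ G}
    (hq : IsQuasiCompactMor g) (hdom : IsSchImage g (𝟙 G)) {N A : Over S} [IsAffine N.left] [IsAffine A.left]
    {y : (yon S).obj N ⟶ G} (hy : RepWith @Etale y) {P : Sp S} {pfst : P ⟶ F} {psnd : P ⟶ (yon S).obj N}
    (sq : IsPullback pfst psnd g y) {r : (yon S).obj A ⟶ P} (hre : RepWith @Etale r)
    (hrs : RepWith @Surjective r) (m : A ⟶ N) (hm : (yon S).map m = r ≫ psnd) :
    Function.Injective m.left.appTop := by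
  let W : PUnit.{u + 1} → Over S := fun _ => N
  let ι₀ : N ⟶ coprodOver W := coprodOverι W ⟨⟩
  let q : coprodOver W ⟶ N := Over.homMk (Limits.Sigma.desc fun _ => 𝟙 N.left) (by
    apply Sigma.hom_ext; intro j; simp [W])
  have hιq : ι₀ ≫ q = 𝟙 N := Over.OverMorphism.ext (by simp [ι₀, q, W])
  have hqι : q ≫ ι₀ = 𝟙 _ := Over.OverMorphism.ext (Sigma.hom_ext _ _ fun ⟨⟩ => by simp [ι₀, q, W])
  have : IsIso q := ⟨ι₀, hqι, hιq⟩
  have : IsIso q.left := inferInstanceAs (IsIso ((Over.forget S).map q))
  have hy' : RepWith @Etale ((yon S).map q ≫ y) :=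
    repWith_comp ((repWith_yon_map_iff _ _).2 (inferInstanceAs (Etale q.left))) hy
  have h0 : kerAt g ((yon S).map q ≫ y) = ⊥ := by
    rw [← subIdeal_eq_kerAt hF hG hq (fun _ => ‹IsAffine N.left›) hdom ?_, subIdeal_id]
    intro R V k φ p hφ hk w
    have : Etale k.left := hk
    have hp : Etale p.left := locP_of_repWith (P := @Etale) hG
      (repWith_comp ((repWith_yon_map_iff _ _).2 ‹_›) hy') (𝟙 _) φ p (repWith_id @Etale R) hφ
      (by rw [Category.id_comp, w])
    infer_instance
  have hle : (m ≫ ι₀).left.ker ≤ kerAt g ((yon S).map q ≫ y) := by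
    refine le_kerAt_iff.2 fun A' a' c' w => ?_
    let l := sq.lift a' ((yon S).map (c' ≫ q)) (by rw [Functor.map_comp, Category.assoc, w])
    have sqD := hre.1.isPullback l
    obtain ⟨d, hd⟩ := (yon S).map_surjective (hre.1.fst l)
    have : Etale (hre.1.snd l).left := hre.2 _ _ _ sqD
    have : Surjective (hre.1.snd l).left := hrs.2 _ _ _ sqD
    have h : d ≫ m = hre.1.snd l ≫ c' ≫ q := (yon S).map_injective (by
      rw [Functor.map_comp, hd, hm, ← Category.assoc, sqD.w, Category.assoc, IsPullback.lift_snd]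
      exact ((yon S).map_comp _ _).symm)
    refine le_ker_of_flat_cover c'.left (fun _ : PUnit.{1} => (hre.1.snd l).left) (fun _ => inferInstance)
      (fun x => ⟨⟨⟩, (hre.1.snd l).left.surjective x⟩) fun _ => ?_
    have h' : d ≫ m ≫ ι₀ = hre.1.snd l ≫ c' := by
      rw [← Category.assoc, h, Category.assoc, Category.assoc, hqι, Category.comp_id]
    rw [← Over.comp_left, ← h', Over.comp_left]
    exact Scheme.Hom.le_ker_comp _ _
  rw [h0, le_bot_iff] at hle
  have : IsAffine (coprodOver W).left := IsAffine.of_isIso q.left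
  have := congrArg (fun I : (coprodOver W).left.IdealSheafData => I.ideal ⟨⊤, isAffineOpen_top _⟩) hle
  simp only [Scheme.Hom.ker_apply, Scheme.IdealSheafData.ideal_bot, Pi.bot_apply,
    ← RingHom.injective_iff_ker_eq_bot] at this
  have h2 : Function.Injective ((m.left ≫ ι₀.left).appTop) := this
  rw [Scheme.Hom.comp_appTop] at h2
  have : IsIso ι₀ := ⟨q, hιq, hqι⟩
  have : IsIso ι₀.left := inferInstanceAs (IsIso ((Over.forget S).map ι₀))
  have : IsIso ι₀.left.appTop := inferInstanceAs (IsIso (Scheme.Γ.map ι₀.left.op))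
  intro a b hab
  obtain ⟨a', rfl⟩ := (ConcreteCategory.bijective_of_isIso ι₀.left.appTop).2 a
  obtain ⟨b', rfl⟩ := (ConcreteCategory.bijective_of_isIso ι₀.left.appTop).2 b
  exact congrArg _ (h2 hab)

end Groth.Agent.RelNorm14
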