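import Groth.Agent.Lib.AlgSpace.Affine
import Groth.Agent.Lib.AlgSpace.Space
import Groth.Agent.Lib.OverBC14.Functor
import Mathlib.CategoryTheory.Limits.Shapes.WidePullbacks
import Mathlib.AlgebraicGeometry.Morphisms.Integral

/-!
# Arbitrary fibre products of integral morphisms
-/

universe u

set_option backward.isDefEq.respectTransparency.types false

open CategoryTheory CategoryTheory.Limits AlgebraicGeometry AlgSp Opposite
open Groth.Agent.AlgSpace

namespace Groth.Agent.RelNorm14

variable {S : Scheme.{u}}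

/-- Pullback squares of sheaves are detected by maps from schemes. -/
theorem isPullback_of_yon {P X Y Z : Sp S} {a : P ⟶ X} {b : P ⟶ Y} {c : X ⟶ Z} {d : Y ⟶ Z}
    (w : a ≫ c = b ≫ d) (h : ∀ ⦃T : Over S⦄ (x : (yon S).obj T ⟶ X) (y : (yon S).obj T ⟶ Y),
      x ≫ c = y ≫ d → ∃! l : (yon S).obj T ⟶ P, l ≫ a = x ∧ l ≫ b = y) : IsPullback a b c d := by
  refine OverBC14.isPullback_iff.2 fun ⟨T⟩ => (Types.isPullback_iff _ _ _ _).2 ⟨?_, ?_, ?_⟩
  · exact congrArg (fun k => k.hom.app (op T)) w
  · rintro p q ⟨h₁, h₂⟩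
    let e := (sect (T := T) (F := P)).symm
    have h₁' : e p ≫ a = e q ≫ a := sect.injective (by
      simpa [e, GrothendieckTopology.uliftYonedaEquiv_comp] using h₁)
    have h₂' : e p ≫ b = e q ≫ b := sect.injective (by
      simpa [e, GrothendieckTopology.uliftYonedaEquiv_comp] using h₂)
    exact e.injective ((h (e p ≫ a) (e p ≫ b) (by rw [Category.assoc, w, Category.assoc])).unique
      ⟨rfl, rfl⟩ ⟨h₁'.symm, h₂'.symm⟩)
  · intro x y hxy
    obtain ⟨l, ⟨hl₁, hl₂⟩, -⟩ := h ((sect (T := T) (F := X)).symm x) ((sect (T := T) (F := Y)).symm y)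
      (sect.injective (by
        simpa [GrothendieckTopology.uliftYonedaEquiv_comp] using hxy))
    refine ⟨sect l, ?_, ?_⟩
    · have := congrArg sect hl₁
      simpa [GrothendieckTopology.uliftYonedaEquiv_comp] using this
    · have := congrArg sect hl₂
      simpa [GrothendieckTopology.uliftYonedaEquiv_comp] using this

section affine

variable {ι : Type u} {Z : Over S} [IsAffine Z.left] {N : ι → Over S} [∀ i, IsAffine (N i).left]
  (n : ∀ i, N i ⟶ Z)

/-- The ring of a product of affine schemes over an affine scheme. -/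
noncomputable abbrev prodRing : CommRingCat.{u} :=
  widePushout Γ(Z.left, ⊤) (fun i => Γ((N i).left, ⊤)) fun i => (n i).left.appTop

/-- The structure map of the ring of the product. -/
noncomputable def prodHead : Γ(Z.left, ⊤) ⟶ prodRing n :=
  WidePushout.head (fun i => (n i).left.appTop)

/-- The scheme of a product of affine schemes over an affine scheme. -/
noncomputable def prodScheme : Over S :=
  Over.mk (Spec.map (prodHead n) ≫ Z.left.isoSpec.inv ≫ Z.hom)

instance : IsAffine (prodScheme n).left := inferInstanceAs (IsAffine (Spec _))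

/-- The map to the base. -/
noncomputable def prodToBase : prodScheme n ⟶ Z :=
  Over.homMk (Spec.map (prodHead n) ≫ Z.left.isoSpec.inv) (Category.assoc _ _ _)

/-- The projections. -/
noncomputable def prodProj (i : ι) : prodScheme n ⟶ N i :=
  Over.homMk (Spec.map (WidePushout.ι (fun i => (n i).left.appTop) i) ≫ (N i).left.isoSpec.inv) (by
    change _ = Spec.map (prodHead n) ≫ Z.left.isoSpec.inv ≫ Z.hom
    rw [← Over.w (n i), Category.assoc, ← Scheme.isoSpec_inv_naturality_assoc, prodHead,
      ← WidePushout.arrow_ι (fun i => (n i).left.appTop) i, Spec.map_comp, Category.assoc]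
    rfl)

theorem prodProj_comp (i : ι) : prodProj n i ≫ n i = prodToBase n := by
  refine Over.OverMorphism.ext ?_
  change (Spec.map _ ≫ (N i).left.isoSpec.inv) ≫ (n i).left = Spec.map (prodHead n) ≫ Z.left.isoSpec.inv
  rw [Category.assoc, ← Scheme.isoSpec_inv_naturality, prodHead,
    ← WidePushout.arrow_ι (fun i => (n i).left.appTop) i, Spec.map_comp, Category.assoc]

omit [∀ i, IsAffine (N i).left] in
theorem isIntegralHom_prodToBase [∀ i, IsIntegralHom (n i).left] : IsIntegralHom (prodToBase n).left := by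
  change IsIntegralHom (Spec.map (prodHead n) ≫ Z.left.isoSpec.inv)
  have : IsIntegralHom (Spec.map (prodHead n)) := by
    rw [IsIntegralHom.SpecMap_iff]
    let A := prodRing n
    algebraize [(prodHead n).hom]
    let C := integralClosure Γ(Z.left, ⊤) A
    have hC : ∀ i x, WidePushout.ι (fun i => (n i).left.appTop) i x ∈ C := fun i x => by
      have hi : (n i).left.appTop.hom.IsIntegral := IsIntegralHom.isIntegral_app (n i).left ⊤ (isAffineOpen_top _)
      obtain ⟨p, hp, hpx⟩ := hi x
      refine ⟨p, hp, ?_⟩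
      have e : (prodHead n).hom = (WidePushout.ι (fun i => (n i).left.appTop) i).hom.comp (n i).left.appTop.hom := by
        rw [← CommRingCat.hom_comp]
        exact congrArg CommRingCat.Hom.hom (WidePushout.arrow_ι (fun i => (n i).left.appTop) i).symm
      rw [RingHom.algebraMap_toAlgebra, e]
      exact (Polynomial.hom_eval₂ p _ _ x).symm.trans ((congrArg _ hpx).trans (map_zero _))
    let d : A ⟶ CommRingCat.of C := WidePushout.desc (CommRingCat.ofHom (algebraMap Γ(Z.left, ⊤) C))
      (fun i => CommRingCat.ofHom ((WidePushout.ι (fun i => (n i).left.appTop) i).hom.codRestrict C.toSubring (hC i)))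
      (fun i => by
        ext z
        exact congrArg (fun f => f.hom z) (WidePushout.arrow_ι (fun i => (n i).left.appTop) i))
    have hd : d ≫ CommRingCat.ofHom C.val.toRingHom = 𝟙 A := by
      refine WidePushout.hom_ext _ _ _ (fun i => ?_) ?_
      · rw [← Category.assoc, WidePushout.ι_desc, Category.comp_id]
        rfl
      · rw [← Category.assoc, WidePushout.head_desc, Category.comp_id]
        rfl
    intro a
    have : (d a).1 = a := congrArg (fun f => f.hom a) hd
    exact this ▸ (d a).2
  infer_instance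

/-- Maps to the product. -/
theorem existsUnique_prodLift {T : Over S} (t : T ⟶ Z) (q : ∀ i, T ⟶ N i) (hq : ∀ i, q i ≫ n i = t) :
    ∃! l : T ⟶ prodScheme n, l ≫ prodToBase n = t ∧ ∀ i, l ≫ prodProj n i = q i := by
  let φ : prodRing n ⟶ Γ(T.left, ⊤) := WidePushout.desc t.left.appTop (fun i => (q i).left.appTop) (fun i => by
    rw [← Scheme.Hom.comp_appTop, ← Over.comp_left, hq])
  let l₀ : T.left ⟶ Spec (prodRing n) := T.left.toSpecΓ ≫ Spec.map φ
  have e₁ : l₀ ≫ Spec.map (prodHead n) ≫ Z.left.isoSpec.inv = t.left := by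
    have : prodHead n ≫ φ = t.left.appTop := WidePushout.head_desc _ _ _ _
    simp only [l₀, Category.assoc]
    rw [← Spec.map_comp_assoc, this, ← Scheme.toSpecΓ_naturality_assoc]
    simp [Scheme.isoSpec]
  have e₂ : ∀ i, l₀ ≫ Spec.map (WidePushout.ι (fun i => (n i).left.appTop) i) ≫ (N i).left.isoSpec.inv = (q i).left := by
    intro i
    have : WidePushout.ι (fun i => (n i).left.appTop) i ≫ φ = (q i).left.appTop := WidePushout.ι_desc _ _ _ _ _
    simp only [l₀, Category.assoc]
    rw [← Spec.map_comp_assoc, this, ← Scheme.toSpecΓ_naturality_assoc]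
    simp [Scheme.isoSpec]
  let l : T ⟶ prodScheme n := Over.homMk l₀ (by
    change l₀ ≫ Spec.map (prodHead n) ≫ Z.left.isoSpec.inv ≫ Z.hom = T.hom
    rw [← Over.w t, ← e₁]; simp [Category.assoc])
  refine ⟨l, ⟨Over.OverMorphism.ext e₁, fun i => Over.OverMorphism.ext (e₂ i)⟩, fun l' ⟨h₁, h₂⟩ => ?_⟩
  refine Over.OverMorphism.ext ?_
  refine ext_of_isAffine ?_
  let es := Scheme.ΓSpecIso (prodRing n)
  change (show T.left ⟶ Spec (prodRing n) from l'.left).appTop = l₀.appTop
  rw [← cancel_epi es.inv]
  refine WidePushout.hom_ext _ _ _ (fun i => ?_) ?_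
  · have h : (Spec.map (WidePushout.ι (fun i => (n i).left.appTop) i) ≫ (N i).left.isoSpec.inv).appTop ≫
        (show T.left ⟶ Spec (prodRing n) from l'.left).appTop =
        (Spec.map (WidePushout.ι (fun i => (n i).left.appTop) i) ≫ (N i).left.isoSpec.inv).appTop ≫ l₀.appTop :=
      (Scheme.Hom.comp_appTop _ _).symm.trans ((congrArg (fun k : T.left ⟶ (N i).left => k.appTop)
        ((congrArg (fun k : T ⟶ N i => k.left) (h₂ i)).trans (e₂ i).symm)).trans (Scheme.Hom.comp_appTop _ _))
    have : IsIso (N i).left.isoSpec.inv.appTop := inferInstanceAs (IsIso (Scheme.Γ.map (N i).left.isoSpec.inv.op))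
    rw [Scheme.Hom.comp_appTop, Category.assoc, Category.assoc, cancel_epi] at h
    rw [← Category.assoc, ← Category.assoc, Scheme.ΓSpecIso_inv_naturality, Category.assoc, Category.assoc, h]
  · have h : (Spec.map (prodHead n) ≫ Z.left.isoSpec.inv).appTop ≫
        (show T.left ⟶ Spec (prodRing n) from l'.left).appTop =
        (Spec.map (prodHead n) ≫ Z.left.isoSpec.inv).appTop ≫ l₀.appTop :=
      (Scheme.Hom.comp_appTop _ _).symm.trans ((congrArg (fun k : T.left ⟶ Z.left => k.appTop)
        ((congrArg (fun k : T ⟶ Z => k.left) h₁).trans e₁.symm)).trans (Scheme.Hom.comp_appTop _ _))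
    have : IsIso Z.left.isoSpec.inv.appTop := inferInstanceAs (IsIso (Scheme.Γ.map Z.left.isoSpec.inv.op))
    rw [Scheme.Hom.comp_appTop, Category.assoc, Category.assoc, cancel_epi] at h
    change prodHead n ≫ _ = prodHead n ≫ _
    rw [← Category.assoc, ← Category.assoc, Scheme.ΓSpecIso_inv_naturality, Category.assoc, Category.assoc, h]

end affine

/-- An arbitrary fibre product of integral morphisms is integral. -/
theorem exists_integral_product {ι : Type u} {X : Sp S} (hX : IsAlgSpace X) (Z : ι → Sp S)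
    (π : ∀ i, Z i ⟶ X) (hπ : ∀ i, IsIntegralMor (π i)) :
    ∃ (P : Space S) (p : P.obj ⟶ X) (pr : ∀ i, P.obj ⟶ Z i), IsIntegralMor p ∧ (∀ i, pr i ≫ π i = p) ∧
      ∀ {Q : Sp S} (q : Q ⟶ X) (a : ∀ i, Q ⟶ Z i), (∀ i, a i ≫ π i = q) →
        ∃ l : Q ⟶ P.obj, l ≫ p = q ∧ ∀ i, l ≫ pr i = a i := by
  let P := widePullback X Z π
  let p : P ⟶ X := WidePullback.base π
  have hp : IsIntegralMor p := by
    intro T hT g
    have := hT
    choose N n fst sq hN hn using fun i => hπ i hT g
    have := hN; have := hn
    let fstP : (yon S).obj (prodScheme n) ⟶ P := WidePullback.lift ((yon S).map (prodToBase n) ≫ g)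
      (fun i => (yon S).map (prodProj n i) ≫ fst i) (fun i => by
        rw [Category.assoc, (sq i).w, ← Functor.map_comp_assoc, prodProj_comp])
    refine ⟨prodScheme n, prodToBase n, fstP, isPullback_of_yon (WidePullback.lift_base _ _ _ _) ?_,
      inferInstance, isIntegralHom_prodToBase n⟩
    intro T' x y hxy
    obtain ⟨t, rfl⟩ := (yon S).map_surjective y
    have hxi : ∀ i, (x ≫ WidePullback.π π i) ≫ π i = (yon S).map t ≫ g := fun i => by
      rw [Category.assoc, WidePullback.π_arrow]; exact hxy
    choose q hq using fun i => (yon S).map_surjective ((sq i).lift _ _ (hxi i))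
    have hq₂ : ∀ i, q i ≫ n i = t := fun i => (yon S).map_injective (by
      rw [Functor.map_comp, hq, IsPullback.lift_snd])
    obtain ⟨l, ⟨hl₁, hl₂⟩, hu⟩ := existsUnique_prodLift n t q hq₂
    refine ⟨(yon S).map l, ⟨?_, by rw [← Functor.map_comp, hl₁]⟩, ?_⟩
    · refine WidePullback.hom_ext _ _ _ (fun i => ?_) ?_
      · rw [Category.assoc, WidePullback.lift_π, ← Functor.map_comp_assoc, hl₂, hq, IsPullback.lift_fst]
      · rw [Category.assoc, WidePullback.lift_base, ← Functor.map_comp_assoc, hl₁]
        exact hxy.symm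
    · rintro l' ⟨h₁, h₂⟩
      obtain ⟨m, rfl⟩ := (yon S).map_surjective l'
      refine congrArg _ (hu m ⟨(yon S).map_injective (by rw [Functor.map_comp, h₂]), fun i =>
        (yon S).map_injective ((sq i).hom_ext ?_ ?_)⟩)
      · rw [hq, IsPullback.lift_fst, Functor.map_comp, Category.assoc, ← h₁, Category.assoc,
          WidePullback.lift_π]
      · rw [hq, IsPullback.lift_snd, ← Functor.map_comp, Category.assoc, prodProj_comp, Functor.map_comp, h₂]
  have hPA : IsAlgSpace P := isAlgSpace_of_representable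
    (isAffineMor_iff_repWith.1 (isIntegralMor_le_isAffineMor hp)).1 hX
  exact ⟨⟨P, hPA⟩, p, fun i => WidePullback.π π i, hp, fun i => WidePullback.π_arrow π i,
    fun q a h => ⟨WidePullback.lift q a h, WidePullback.lift_base _ _ _ _,
      fun i => WidePullback.lift_π _ _ _ _ _⟩⟩

end Groth.Agent.RelNorm14
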